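import Groth.Agent.VBCurve.K553.SubChow2
import Groth.Agent.VBCurve.K471.SubD
import Groth.Agent.VBCurve.K569.SubInv
import Groth.Agent.VBCurve.K323.SubDivCap
import Groth.Agent.Cyc.K308.DegG
import Groth.Agent.Cyc.K308.PBBasic
import Groth.Agent.CycB.RelDim4

/-!
# SUB-PUSH: degree and pushforward on Chow groups over a field

* `degT_cl`, `degT_add`, `degT_pushT`, `degT_fund_pt`: the degree;
* `pushT_cD`, `pushT_cN`: projection formulas;
* `pushT_fund`: the fundamental class of `T × C` pushes forward to zero;
* `pushT_cD_fund`: the class of the graph of `a : T ⟶ C` pushes forward to the fundamental class.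
-/

set_option autoImplicit false
set_option linter.unusedSectionVars false
universe u
open CategoryTheory CategoryTheory.Limits AlgebraicGeometry

namespace K289.SubPush

open Groth.Agent Groth.Agent.CycB Cyc K308.Grp K553.Sub

section gen

variable {k : Type u} [Field k]

theorem degT_eq (T : Over (Spec (CommRingCat.of k))) [IsProper T.hom] (a : GT T) :
    degT T a = degG T.hom (dlt_setup T) (dlt_compat T) a := by
  conv_rhs => rw [← (K308.Grp.cl_surjective (dlt T) a).choose_spec]
  rfl

/-- A point over `k` has dimension zero. -/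
theorem dlt_eq_zero_of_isIso (T : Over (Spec (CommRingCat.of k))) [IsProper T.hom] [IsIso T.hom] (t : T.left) :
    dlt T t = 0 :=
  congrFun (SetupLft.deltaCompat_unique (dlt_compat T)
    (GysinFib.deltaCompat_closedImmersion T.hom (fun _ => 0))) t

end gen

section graph

variable {S : Scheme.{u}} {C : Over S} {T : Over S}

/-- The graph of `a` is the preimage of the diagonal. -/
theorem isPullback_graph (a : T ⟶ C) :
    IsPullback a.left (lft (𝟙 T) a).left (pullback.diagonal C.hom) (pair (pr C T ≫ a) (qr C T)) := by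
  have e1 : (lft (𝟙 T) a).left ≫ (pr C T).left = 𝟙 T.left := by
    rw [← Over.comp_left, lft_pr]; rfl
  have e2 : (lft (𝟙 T) a).left ≫ (qr C T).left = a.left := by
    rw [← Over.comp_left, lft_qr]
  have h1 : pair (pr C T ≫ a) (qr C T) ≫ pullback.fst C.hom C.hom = (pr C T).left ≫ a.left :=
    pullback.lift_fst _ _ _
  have h2 : pair (pr C T ≫ a) (qr C T) ≫ pullback.snd C.hom C.hom = (qr C T).left :=
    pullback.lift_snd _ _ _
  refine ⟨⟨?_⟩, ⟨PullbackCone.IsLimit.mk _ (fun s => s.snd ≫ (pr C T).left) ?_ ?_ ?_⟩⟩
  · apply pullback.hom_ext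
    · rw [Category.assoc, Category.assoc, pullback.diagonal_fst, h1, reassoc_of% e1, Category.comp_id]
    · rw [Category.assoc, Category.assoc, pullback.diagonal_snd, h2, e2, Category.comp_id]
  · intro s
    have h3 := congrArg (fun φ => φ ≫ pullback.fst C.hom C.hom) s.condition
    rw [Category.assoc, Category.assoc, pullback.diagonal_fst, h1, Category.comp_id] at h3
    rw [Category.assoc, h3]
  · intro s
    have h3 := congrArg (fun φ => φ ≫ pullback.fst C.hom C.hom) s.condition
    have h4 := congrArg (fun φ => φ ≫ pullback.snd C.hom C.hom) s.condition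
    rw [Category.assoc, Category.assoc, pullback.diagonal_fst, h1, Category.comp_id] at h3
    rw [Category.assoc, Category.assoc, pullback.diagonal_snd, h2, Category.comp_id] at h4
    refine pullback.hom_ext ?_ ?_
    · change ((s.snd ≫ (pr C T).left) ≫ (lft (𝟙 T) a).left) ≫ (pr C T).left = s.snd ≫ (pr C T).left
      rw [Category.assoc, Category.assoc, e1, Category.comp_id]
    · change ((s.snd ≫ (pr C T).left) ≫ (lft (𝟙 T) a).left) ≫ (qr C T).left = s.snd ≫ (qr C T).left
      rw [Category.assoc, Category.assoc, e2, ← h3, h4]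
  · intro s m h3 h4
    rw [← h4, Category.assoc, e1, Category.comp_id]

end graph

section field

variable {k : Type u} [Field k] [IsAlgClosed k] (C : Over (Spec (CommRingCat.of k)))
  [IsIntegral C.left] [IsProper C.hom] [Smooth C.hom] (hdim : topologicalKrullDim C.left = 1)

include hdim in
omit [IsAlgClosed k] [IsProper C.hom] in
theorem smooth_pr (T : Over (Spec (CommRingCat.of k))) : SmoothOfRelativeDimension 1 (pr C T).left := by
  have := VBCurve.K569.SubInv.smooth_one C hdim
  have h : MorphismProperty.IsStableUnderBaseChange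
      (@SmoothOfRelativeDimension 1 : MorphismProperty Scheme.{u}) :=
    smoothOfRelativeDimension_isStableUnderBaseChange 1
  exact MorphismProperty.of_isPullback (P := @SmoothOfRelativeDimension 1)
    (IsPullback.of_hasPullback T.hom C.hom).flip this

theorem lft_pr_left {S : Scheme.{u}} {C T : Over S} (a : T ⟶ C) :
    (lft (𝟙 T) a).left ≫ (pr C T).left = 𝟙 T.left := by
  rw [← Over.comp_left, lft_pr]; rfl

theorem map_generic {X Y : Scheme.{u}} [IsIntegral X] [IsIntegral Y] (f : X ⟶ Y)
    (h : Function.Surjective f) : f (genericPoint X) = genericPoint Y := by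
  have h1 := (genericPoint_spec X).image f.continuous
  rw [Set.image_univ, h.range_eq, closure_univ] at h1
  exact h1.eq (genericPoint_spec Y)

variable (T : Over (Spec (CommRingCat.of k))) [IsIntegral T.left]
  [LocallyOfFiniteType T.hom] [LocallyOfFiniteType (TX C T).hom] [IsIntegral (TX C T).left]

include hdim in
omit [IsAlgClosed k] [IsProper C.hom] [IsIntegral T.left] in
theorem dlt_generic : dlt (TX C T) (genericPoint (TX C T).left) =
    dlt T ((pr C T).left (genericPoint (TX C T).left)) + 1 := by
  have := smooth_pr C hdim T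
  have hsm : Smooth (pr C T).left := SmoothOfRelativeDimension.smooth 1 _
  refine (RelDim.fibGeneric_iff_delta (r := 1) (K308.PB.hasRelDim_of_smooth (pr C T).left)
    (pushT_compat (pr C T)) _).1 ?_
  intro x' _ h
  exact (h.antisymm (genericPoint_specializes x')).eq

end field

end K289.SubPush

namespace K553.Sub

open Groth.Agent Groth.Agent.CycB Cyc K308.Grp K289.SubPush

variable {k : Type u} [Field k] [IsAlgClosed k] (C : Over (Spec (CommRingCat.of k)))
  [IsIntegral C.left] [IsProper C.hom] [Smooth C.hom] (hdim : topologicalKrullDim C.left = 1)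

section push

theorem degT_cl (T : Over (Spec (CommRingCat.of k))) [IsProper T.hom] (α : AlgebraicCycle T.left ℤ) :
    degT T (K308.Grp.cl (dlt T) α) = ChowOps.deg T.hom (dlt T) α := by
  rw [degT_eq]
  rfl

theorem degT_add (T : Over (Spec (CommRingCat.of k))) [IsProper T.hom] (a b : GT T) :
    degT T (a + b) = degT T a + degT T b := by
  rw [degT_eq, degT_eq, degT_eq, map_add]

theorem degT_pushT {U T : Over (Spec (CommRingCat.of k))} [IsProper U.hom] [IsProper T.hom] (f : U ⟶ T)
    [IsProper f.left] (a : GT U) : degT T (pushT f a) = degT U a := by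
  rw [degT_eq, degT_eq]
  exact degG_push T.hom (dlt_setup T) (dlt_compat T) U.hom (dlt_setup U) (dlt_compat U) f.left
    (pushT_compat f) (Over.w f) a

theorem degT_fund_pt (T : Over (Spec (CommRingCat.of k))) [IsProper T.hom] [IsIntegral T.left] [IsIso T.hom] :
    degT T (fund T) = 1 := by
  rw [fund, degT_cl, ChowOps.deg, Push.map_apply, finsum_mem_def, finsum_eq_single _ (genericPoint T.left)]
  · rw [Set.indicator_of_mem, K306.PtCyc.ptCyc_self, one_mul, AlgebraicCycle.mapCoeff,
      if_pos (dlt_eq_zero_of_isIso T _), DivNat.residueDegree_eq_one]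
    · rfl
    · exact Subsingleton.elim (α := PrimeSpectrum k) _ _
  · intro x hx
    by_cases h : x ∈ {x : T.left | T.hom x = IsLocalRing.closedPoint k}
    · rw [Set.indicator_of_mem h, K306.PtCyc.ptCyc_of_ne hx, zero_mul]
    · rw [Set.indicator_of_notMem h]

include hdim in
theorem pushT_cD {U T : Over (Spec (CommRingCat.of k))} [IsProper U.hom] [IsProper T.hom] (f : U ⟶ T)
    [IsProper f.left] (a b : T ⟶ C) (x : GT U) : pushT f (cD (f ≫ a) (f ≫ b) x) = cD a b (pushT f x) := by
  obtain ⟨e, -⟩ := nonempty_D_pull f a b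
  rw [cD, cD, end_neg_apply, end_neg_apply, map_neg, ← C1_congr (dlt U) e]
  congr 1
  exact push_C1 (dlt_setup U) (dlt_setup T) f.left (pushT_compat f) (isInvertible_D C hdim a b) x

theorem pushT_cN {U T : Over (Spec (CommRingCat.of k))} [IsProper U.hom] [IsProper T.hom] (f : U ⟶ T)
    [IsProper f.left] (N : C.left.Modules) (hN : PicF.IsInvertible N) (a : T ⟶ C) (x : GT U) :
    pushT f (cN N (f ≫ a) x) = cN N a (pushT f x) := by
  rw [cN, cN, ← C1_congr (dlt U) (show (Scheme.Modules.pullback f.left).obj ((Scheme.Modules.pullback a.left).obj N) ≅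
    (Scheme.Modules.pullback (f ≫ a).left).obj N from (Scheme.Modules.pullbackComp f.left a.left).app N)]
  exact push_C1 (dlt_setup U) (dlt_setup T) f.left (pushT_compat f)
    (Fdesc.LocGen.isInvertible_pullback _ hN) x

variable (T : Over (Spec (CommRingCat.of k))) [IsProper T.hom] [IsIntegral T.left] [IsProper (TX C T).hom]
  [IsIntegral (TX C T).left] [IsProper (pr C T).left]

include hdim in
theorem pushT_fund : pushT (pr C T) (fund (TX C T)) = 0 := by
  rw [fund, pushT, push_cl]
  have h : AlgebraicCycle.map (pr C T).left (dlt (TX C T)) (dlt T)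
      (K306.PtCyc.ptCyc (genericPoint (TX C T).left)) = 0 := by
    ext y
    rw [Push.map_apply]
    refine finsum_mem_eq_zero_of_forall_eq_zero fun x _ => ?_
    by_cases hx : x = genericPoint (TX C T).left
    · subst hx
      have h1 := dlt_generic C hdim T
      rw [AlgebraicCycle.mapCoeff, if_neg, Nat.cast_zero, mul_zero]
      intro h2
      have h3 : dlt (TX C T) (genericPoint (TX C T).left) =
        dlt T ((pr C T).left (genericPoint (TX C T).left)) := h2
      omega
    · rw [K306.PtCyc.ptCyc_of_ne hx, zero_mul]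
  rw [h, map_zero]

include hdim in
theorem pushT_cD_fund (a : T ⟶ C) : pushT (pr C T) (cD (pr C T ≫ a) (qr C T) (fund (TX C T))) = fund T := by
  classical
  have hsm := smooth_pr C hdim T
  have hγ := lft_pr_left a
  have hcl := VBCurve.K569.SubInv.isClosedImmersion_section (pr C T).left (lft (𝟙 T) a).left hγ
  have heff := VBCurve.K569.SubInv.isEff_section (pr C T).left (lft (𝟙 T) a).left hγ
  have hker := Picfga.SecGraph.ker_eq_comap_of_isPullback (isPullback_graph a)
  have h3 := Dix.IdealModCartier.pullback_idealMod (pair (pr C T ≫ a) (qr C T))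
    (VBCurve.K569.SubInv.isEff_diag C hdim) (by rw [← hker]; exact heff)
  rw [← hker] at h3
  obtain ⟨e⟩ := h3
  have hgen : (pr C T).left (genericPoint (TX C T).left) = genericPoint T.left :=
    map_generic _ fun t => ⟨(lft (𝟙 T) a).left t, by
      rw [← Scheme.Hom.comp_apply, hγ]; rfl⟩
  have hd : dlt T (genericPoint T.left) = dlt (TX C T) (genericPoint (TX C T).left) - 1 := by
    rw [dlt_generic C hdim T, hgen]; ring
  have hα : ⇑(K306.PtCyc.ptCyc (genericPoint (TX C T).left)) =
      subschemeFun (dlt (TX C T)) (dlt (TX C T) (genericPoint (TX C T).left)) (𝟙 _) := by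
    funext x
    rw [VBCurve.K323.SubChow.fund_apply (dlt_setup (TX C T)).2.2]
    split_ifs with h
    · rw [h, K306.PtCyc.ptCyc_self]
    · rw [K306.PtCyc.ptCyc_of_ne h]
  have hβ' : ⇑(K306.PtCyc.ptCyc (genericPoint T.left)) =
      subschemeFun (dlt T) (dlt T (genericPoint T.left)) (𝟙 _) := by
    funext x
    rw [VBCurve.K323.SubChow.fund_apply (dlt_setup T).2.2]
    split_ifs with h
    · rw [h, K306.PtCyc.ptCyc_self]
    · rw [K306.PtCyc.ptCyc_of_ne h]
  have h4 := VBCurve.K323.SubChow.C1_idealMod (dlt_setup (TX C T)) (lft (𝟙 T) a).left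
    (Dix.IdealModCartier.isInvertible_idealMod heff) hα hd
    (map_fund (lft (𝟙 T) a).left (pushT_compat (lft (𝟙 T) a)) hβ')
  have h5 : cD (pr C T ≫ a) (qr C T) (fund (TX C T)) = pushT (lft (𝟙 T) a) (fund T) := by
    rw [cD, end_neg_apply, C1_congr (dlt (TX C T)) (show D (pr C T ≫ a) (qr C T) ≅ _ from e), fund, h4, neg_neg]
    rfl
  rw [h5, fund, pushT, pushT, push_cl, push_cl, Push.map_map (dlt T) (dlt (TX C T)) (dlt T) _ _
    (pushT_compat (lft (𝟙 T) a)) (pushT_compat (pr C T))]
  have h6 : ∀ (f : T.left ⟶ T.left) [QuasiCompact f] (hf : f = 𝟙 T.left) (α : AlgebraicCycle T.left ℤ),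
      AlgebraicCycle.map f (dlt T) (dlt T) α = α := by
    rintro f _ rfl α
    exact AlgebraicCycle.map_id _ _
  rw [h6 _ hγ]

end push

end K553.Sub
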